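import Mathlib

/-!
# S3412 farm (helper28): shared definitions

The commuting graph of a group `X` (vertices: non-identity elements), its automorphism group,
the graph-theoretically defined set `TT X` (centralizer order divisible by 27) and family `KK X`
(common `TT`-neighbourhoods of commuting non-twin pairs); the concrete model for `SL(3,3)`:
transvections `tv v φ = 1 + v φᵀ`, the 13 normalised vectors `ptVec`, the Levi graph of `PG(2,3)`
on `Fin 13 ⊕ Fin 13` and the sets `kap a` (transvections with a given centre / axis).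
-/

set_option autoImplicit false

namespace Cfsg.Agent.Lib.Helper28.CG

open Matrix

/-- non-identity elements: the vertices of the commuting graph -/
abbrev V (X : Type*) [Group X] := {x : X // x ≠ 1}

/-- the commuting relation -/
def comm {X : Type*} [Group X] (x y : V X) : Prop := x.1 * y.1 = y.1 * x.1

/-- automorphisms of the commuting graph -/
def GAut (X : Type*) [Group X] : Subgroup (Equiv.Perm (V X)) where
  carrier := {σ | ∀ x y, comm (σ x) (σ y) ↔ comm x y}
  mul_mem' := by
    intro a b ha hb x y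
    simp only [Equiv.Perm.coe_mul, Function.comp_apply]
    rw [ha, hb]
  one_mem' := by
    intro x y
    simp
  inv_mem' := by
    intro a ha x y
    have := ha (a⁻¹ x) (a⁻¹ y)
    simp only [Equiv.Perm.coe_inv, Equiv.apply_symm_apply] at this
    exact this.symm

theorem mem_GAut {X : Type*} [Group X] (σ : Equiv.Perm (V X)) :
    σ ∈ GAut X ↔ ∀ x y, comm (σ x) (σ y) ↔ comm x y := Iff.rfl

/-- the order of the centralizer of a vertex (its degree plus two) -/
noncomputable def cdeg {X : Type*} [Group X] (x : V X) : ℕ :=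
  Nat.card (Subgroup.centralizer ({x.1} : Set X))

/-- vertices whose centralizer has order divisible by 27 -/
def TT (X : Type*) [Group X] : Set (V X) := {x | 27 ∣ cdeg x}

/-- twins: the same neighbours inside `TT` -/
def twin {X : Type*} [Group X] (t u : V X) : Prop := ∀ w ∈ TT X, comm w t ↔ comm w u

/-- the common `TT`-neighbourhoods of commuting non-twin pairs of `TT` -/
def KK (X : Type*) [Group X] : Set (Set (V X)) :=
  {K | ∃ t ∈ TT X, ∃ u ∈ TT X, comm t u ∧ ¬ twin t u ∧
    K = {w | w ∈ TT X ∧ comm w t ∧ comm w u}}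

/-! ### the concrete model -/

/-- `SL(3, 3)` -/
abbrev S33 : Type := Matrix.SpecialLinearGroup (Fin 3) (ZMod 3)

/-- vectors over the field with three elements -/
abbrev Vec : Type := Fin 3 → ZMod 3

/-- the thirteen normalised non-zero vectors (first non-zero coordinate `1`) -/
def ptVec : Fin 13 → Vec :=
  ![![1, 0, 0], ![1, 0, 1], ![1, 0, 2], ![1, 1, 0], ![1, 1, 1], ![1, 1, 2], ![1, 2, 0],
    ![1, 2, 1], ![1, 2, 2], ![0, 1, 0], ![0, 1, 1], ![0, 1, 2], ![0, 0, 1]]

/-- incidence of the point `i` and the line `j` of `PG(2,3)` -/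
def inc (i j : Fin 13) : Prop := ptVec i ⬝ᵥ ptVec j = 0

instance : DecidableRel inc := fun i j => by unfold inc; infer_instance

/-- points and lines -/
abbrev Om : Type := Fin 13 ⊕ Fin 13

/-- adjacency in the Levi graph (incidence graph) of `PG(2,3)` -/
def LeviAdj : Om → Om → Prop
  | Sum.inl i, Sum.inr j => inc i j
  | Sum.inr j, Sum.inl i => inc i j
  | _, _ => False

instance : DecidableRel LeviAdj := fun a b => by
  cases a <;> cases b <;> unfold LeviAdj <;> infer_instance

/-- automorphisms of the Levi graph -/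
def LeviAut : Subgroup (Equiv.Perm Om) where
  carrier := {σ | ∀ a b, LeviAdj (σ a) (σ b) ↔ LeviAdj a b}
  mul_mem' := by
    intro a b ha hb x y
    simp only [Equiv.Perm.coe_mul, Function.comp_apply]
    rw [ha, hb]
  one_mem' := by
    intro x y
    simp
  inv_mem' := by
    intro a ha x y
    have := ha (a⁻¹ x) (a⁻¹ y)
    simp only [Equiv.Perm.coe_inv, Equiv.apply_symm_apply] at this
    exact this.symm

theorem mem_LeviAut (σ : Equiv.Perm Om) :
    σ ∈ LeviAut ↔ ∀ a b, LeviAdj (σ a) (σ b) ↔ LeviAdj a b := Iff.rfl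

/-- the transvection `1 + v φᵀ` -/
def tv (v φ : Vec) : Matrix (Fin 3) (Fin 3) (ZMod 3) := 1 + Matrix.vecMulVec v φ

/-- `v` is a non-zero vector, `φ` a non-zero covector vanishing on `v` -/
def IsFlagPair (v φ : Vec) : Prop := v ≠ 0 ∧ φ ≠ 0 ∧ φ ⬝ᵥ v = 0

instance (v φ : Vec) : Decidable (IsFlagPair v φ) := by unfold IsFlagPair; infer_instance

/-- the vertices of `SL(3,3)` that are transvections -/
def IsTv (x : V S33) : Prop :=
  ∃ v φ : Vec, IsFlagPair v φ ∧ ((x.1 : S33) : Matrix (Fin 3) (Fin 3) (ZMod 3)) = tv v φ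

/-- the transvections with centre `ptVec i` (for `inl i`), resp. with axis `ptVec j` (for `inr j`) -/
def kap : Om → Set (V S33)
  | Sum.inl i => {x | ∃ φ : Vec, IsFlagPair (ptVec i) φ ∧
      ((x.1 : S33) : Matrix (Fin 3) (Fin 3) (ZMod 3)) = tv (ptVec i) φ}
  | Sum.inr j => {x | ∃ v : Vec, IsFlagPair v (ptVec j) ∧
      ((x.1 : S33) : Matrix (Fin 3) (Fin 3) (ZMod 3)) = tv v (ptVec j)}

end Cfsg.Agent.Lib.Helper28.CG
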