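import Mathlib
import Cfsg.Agent.Lib.Helper28.CG.Defs

/-!
# S3412 (helper28): the generic leaves [G1]-[G5]
-/

set_option autoImplicit false

namespace Cfsg.Agent.Lib.Helper28.CG

/-! ### [G1] -/

namespace Gen

theorem centralizer_eq {X : Type*} [Group X] (x : V X) :
    ((Subgroup.centralizer ({x.1} : Set X) : Subgroup X) : Set X) =
      insert 1 (Subtype.val '' {y : V X | comm y x}) := by
  ext c
  simp only [SetLike.mem_coe, Subgroup.mem_centralizer_singleton_iff, Set.mem_insert_iff,
    Set.mem_image, Set.mem_setOf_eq]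
  constructor
  · intro h
    by_cases hc : c = 1
    · exact Or.inl hc
    · exact Or.inr ⟨⟨c, hc⟩, h, rfl⟩
  · rintro (rfl | ⟨y, hy, rfl⟩)
    · simp
    · exact hy

theorem cdeg_eq {X : Type*} [Group X] [Finite X] (x : V X) :
    cdeg x = Nat.card {y : V X // comm y x} + 1 := by
  unfold cdeg
  have e1 : Nat.card {y : V X // comm y x} = ({y : V X | comm y x}).ncard :=
    Nat.card_coe_set_eq ({y : V X | comm y x})
  have e2 : Nat.card (Subgroup.centralizer ({x.1} : Set X)) =
      ((Subgroup.centralizer ({x.1} : Set X) : Subgroup X) : Set X).ncard :=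
    Nat.card_coe_set_eq _
  rw [e1, e2, centralizer_eq, Set.ncard_insert_of_notMem,
    Set.ncard_image_of_injective _ Subtype.val_injective]
  rintro ⟨y, _, hy⟩
  exact y.2 hy

end Gen

/-- [G1] a commuting-graph isomorphism preserves centralizer orders -/
theorem cdeg_eq_of_iso {H S : Type*} [Group H] [Group S] [Finite H] [Finite S]
    (f : V H ≃ V S) (hf : ∀ x y, comm (f x) (f y) ↔ comm x y) (x : V H) :
    cdeg (f x) = cdeg x := by
  rw [Gen.cdeg_eq, Gen.cdeg_eq]
  congr 1
  exact (Nat.card_congr (f.subtypeEquiv (fun y => (hf y x).symm))).symm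

/-! ### [G2] -/

/-- [G2] a graph automorphism preserving centralizer orders maps `KK` to `KK` -/
theorem image_mem_KK {X : Type*} [Group X] (σ : Equiv.Perm (V X)) (hσ : σ ∈ GAut X)
    (hdeg : ∀ x, cdeg (σ x) = cdeg x) (K : Set (V X)) (hK : K ∈ KK X) : σ '' K ∈ KK X := by
  have hc : ∀ x y, comm (σ x) (σ y) ↔ comm x y := (mem_GAut σ).1 hσ
  have hT : ∀ x, σ x ∈ TT X ↔ x ∈ TT X := by
    intro x
    unfold TT
    simp only [Set.mem_setOf_eq]
    rw [hdeg]
  obtain ⟨t, ht, u, hu, htu, hntw, rfl⟩ := hK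
  refine ⟨σ t, (hT t).2 ht, σ u, (hT u).2 hu, (hc t u).2 htu, ?_, ?_⟩
  · intro htw
    apply hntw
    intro w hw
    have := htw (σ w) ((hT w).2 hw)
    rw [hc, hc] at this
    exact this
  · ext w
    constructor
    · rintro ⟨z, ⟨hz1, hz2, hz3⟩, rfl⟩
      exact ⟨(hT z).2 hz1, (hc z t).2 hz2, (hc z u).2 hz3⟩
    · rintro ⟨hw1, hw2, hw3⟩
      refine ⟨σ.symm w, ⟨?_, ?_, ?_⟩, by simp⟩
      · rw [← hT]; simpa using hw1
      · rw [← hc]; simpa using hw2
      · rw [← hc]; simpa using hw3

/-! ### [G3] -/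

/-- [G3] two subgroups of the same order `n` in a group of order at most `2n` coincide if one of
them has no subgroup of index two -/
theorem eq_of_card_eq_of_no_index_two {A : Type*} [Group A] [Finite A] (B₁ B₂ : Subgroup A)
    (n : ℕ) (h1 : Nat.card B₁ = n) (h2 : Nat.card B₂ = n) (hA : Nat.card A ≤ 2 * n)
    (hno : ∀ N : Subgroup B₁, N.index ≠ 2) : B₁ = B₂ := by
  have hn : 0 < n := by rw [← h2]; exact Nat.card_pos
  have hidx : B₂.index ≤ 2 := by
    have h := B₂.card_mul_index
    rw [h2] at h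
    by_contra hlt
    have : n * 3 ≤ n * B₂.index := Nat.mul_le_mul_left n (by omega)
    omega
  have hne : B₂.relIndex ⊤ ≠ 0 := by
    rw [Subgroup.relIndex_top_right]
    exact Subgroup.index_ne_zero_of_finite
  have hrel : B₂.relIndex B₁ ≤ 2 := by
    have h := Subgroup.relIndex_le_of_le_right (H := B₂) (le_top : B₁ ≤ ⊤) hne
    rw [Subgroup.relIndex_top_right] at h
    exact h.trans hidx
  have hrel0 : B₂.relIndex B₁ ≠ 0 := by
    intro h0
    exact hne (Subgroup.relIndex_eq_zero_of_le_right le_top h0)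
  have hrel2 : B₂.relIndex B₁ ≠ 2 := hno (B₂.subgroupOf B₁)
  have hrel1 : B₂.relIndex B₁ = 1 := by omega
  have hle : B₁ ≤ B₂ := Subgroup.relIndex_eq_one.1 hrel1
  exact Subgroup.eq_of_le_of_card_ge hle (by rw [h1, h2])

/-! ### [G5] -/

/-- [G5] a permutation group permuting an injectively indexed family of sets acts on the index
set -/
theorem exists_hom_of_image_mem {Y Ω : Type*} (G : Subgroup (Equiv.Perm Y)) (κ : Ω → Set Y)
    (hκ : Function.Injective κ)
    (hG : ∀ σ ∈ G, ∀ a, ∃ b, κ b = (σ : Equiv.Perm Y) '' κ a) :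
    ∃ Φ : G →* Equiv.Perm Ω, ∀ (σ : G) (a : Ω),
      κ (Φ σ a) = ((σ : Equiv.Perm Y) : Y → Y) '' κ a := by
  classical
  let F : G → Ω → Ω := fun σ a => Classical.choose (hG σ.1 σ.2 a)
  have hF : ∀ (σ : G) (a : Ω), κ (F σ a) = (σ.1 : Y → Y) '' κ a :=
    fun σ a => Classical.choose_spec (hG σ.1 σ.2 a)
  have hmul : ∀ (σ τ : G) (a : Ω), F (σ * τ) a = F σ (F τ a) := by
    intro σ τ a
    apply hκ
    rw [hF, hF, hF, ← Set.image_comp]
    rfl
  have hone : ∀ a : Ω, F 1 a = a := by
    intro a
    apply hκ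
    rw [hF]
    simp
  let Φ : G →* Equiv.Perm Ω :=
    { toFun := fun σ =>
        { toFun := F σ
          invFun := F σ⁻¹
          left_inv := fun a => by rw [← hmul, inv_mul_cancel, hone]
          right_inv := fun a => by rw [← hmul, mul_inv_cancel, hone] }
      map_one' := by
        ext a
        exact hone a
      map_mul' := fun σ τ => by
        ext a
        exact hmul σ τ a }
  exact ⟨Φ, fun σ a => hF σ a⟩

/-! ### [G4] -/

namespace Gen

theorem card_stabilizer_eq {H : Type*} [Group H] (k : H) :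
    Nat.card (MulAction.stabilizer (ConjAct H) k) =
      Nat.card (Subgroup.centralizer ({k} : Set H)) := by
  apply Nat.card_congr
  refine Equiv.subtypeEquiv ConjAct.ofConjAct.toEquiv ?_
  intro g
  rw [MulAction.mem_stabilizer_iff, ConjAct.smul_def, Subgroup.mem_centralizer_singleton_iff]
  simp only [MulEquiv.toEquiv_eq_coe, EquivLike.coe_coe]
  constructor
  · intro h
    rw [mul_inv_eq_iff_eq_mul] at h
    exact h
  · intro h
    rw [mul_inv_eq_iff_eq_mul]
    exact h

theorem card_le_sixteen {H : Type*} [Group H] [Finite H] (hH : Nat.card H = 5616)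
    (K : Subgroup H) (hK : ∀ k ∈ K, k * k = 1) : Nat.card K ≤ 16 := by
  have : Fact (Nat.Prime 2) := ⟨Nat.prime_two⟩
  have hp : IsPGroup 2 K := by
    intro g
    refine ⟨1, ?_⟩
    apply Subtype.ext
    have := hK g.1 g.2
    simpa [pow_two] using this
  obtain ⟨m, hm⟩ := hp.exists_card_eq
  have hdvd : Nat.card K ∣ 5616 := by
    rw [← hH]; exact Subgroup.card_subgroup_dvd_card K
  rw [hm] at hdvd ⊢
  by_contra hlt
  have h5 : 5 ≤ m := by
    by_contra h5
    have : m ≤ 4 := by omega
    have : 2 ^ m ≤ 2 ^ 4 := Nat.pow_le_pow_right (by norm_num) this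
    omega
  have h32 : 2 ^ 5 ∣ 5616 := (pow_dvd_pow 2 h5).trans hdvd
  norm_num at h32

end Gen

/-- [G4] a normal subgroup of exponent two in a group of order 5616 all of whose non-identity
elements have centralizers of order at most 374 is trivial -/
theorem eq_bot_of_exponent_two {H : Type*} [Group H] [Finite H] (hH : Nat.card H = 5616)
    (K : Subgroup H) [K.Normal] (hK : ∀ k ∈ K, k * k = 1)
    (hc : ∀ k ∈ K, k ≠ 1 → Nat.card (Subgroup.centralizer ({k} : Set H)) ≤ 374) : K = ⊥ := by
  classical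
  rw [Subgroup.eq_bot_iff_forall]
  intro k hk
  by_contra hk1
  have : Fintype H := Fintype.ofFinite H
  have : Fintype (ConjAct H) := Fintype.ofFinite _
  have horb := MulAction.card_orbit_mul_card_stabilizer_eq_card_group (ConjAct H) k
  rw [← Nat.card_eq_fintype_card, ← Nat.card_eq_fintype_card, ← Nat.card_eq_fintype_card,
    Gen.card_stabilizer_eq] at horb
  have hcard : Nat.card (ConjAct H) = 5616 := hH
  have h16 := Gen.card_le_sixteen hH K hK
  have hsub : MulAction.orbit (ConjAct H) k ⊆ (K : Set H) \ {1} := by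
    intro x hx
    rw [ConjAct.mem_orbit_conjAct, isConj_iff] at hx
    obtain ⟨c, hc'⟩ := hx
    have hx' : x = c⁻¹ * k * c⁻¹⁻¹ := by rw [← hc']; group
    refine ⟨?_, ?_⟩
    · rw [hx']
      exact ‹K.Normal›.conj_mem k hk c⁻¹
    · intro h1
      rw [Set.mem_singleton_iff] at h1
      apply hk1
      rw [← hc', h1]
      group
  have hle : Nat.card (MulAction.orbit (ConjAct H) k) ≤ 15 := by
    rw [Nat.card_coe_set_eq]
    have h1 := Set.ncard_le_ncard hsub (Set.toFinite _)
    have h2 : ((K : Set H) \ {1}).ncard = (K : Set H).ncard - 1 :=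
      Set.ncard_sdiff_singleton_of_mem K.one_mem
    have h3 : (K : Set H).ncard = Nat.card K := (Nat.card_coe_set_eq _).symm
    omega
  have h374 := hc k hk hk1
  have : Nat.card (MulAction.orbit (ConjAct H) k) *
      Nat.card (Subgroup.centralizer ({k} : Set H)) ≤ 15 * 374 := Nat.mul_le_mul hle h374
  omega

end Cfsg.Agent.Lib.Helper28.CG
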