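import Mathlib
import Cfsg.Agent.Lib.Helper28.CG.Defs
import Cfsg.Agent.Lib.Helper15.CGS6b
import Cfsg.Agent.Lib.Helper28.L33

/-!
# S3412 (helper28): leaf [S6a] (architect's spare): centralizer order divisible by 27 forces a
transvection

On top of helper15's unitriangular group `P0` (order 27): a subgroup of order 27 of the centralizer
is a Sylow 3-subgroup, hence conjugate to `P0`, and the centralizer of `P0` in `SL(3,3)` consists
of the matrices `1 + b E₁₃`.
-/

set_option autoImplicit false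

namespace Cfsg.Agent.Lib.Helper28.CG

open Matrix

namespace Syl

open Helper15

theorem cube_eq_one : ∀ a : ZMod 3, a * a * a = 1 → a = 1 := by decide

/-- the centralizer of the unitriangular group -/
theorem eq_MS_of_centralizes (y : S33) (h : ∀ g ∈ P0, g * y = y * g) :
    y = MS 0 (y.1 0 2) 0 := by
  have h1 := congrArg (fun t : S33 => (t : Matrix (Fin 3) (Fin 3) (ZMod 3)))
    (h (MS 1 0 0) (MS_mem_P0 1 0 0))
  have h2 := congrArg (fun t : S33 => (t : Matrix (Fin 3) (Fin 3) (ZMod 3)))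
    (h (MS 0 0 1) (MS_mem_P0 0 0 1))
  simp only [Matrix.SpecialLinearGroup.coe_mul] at h1 h2
  have a00 := congrFun (congrFun h1 0) 0
  have a01 := congrFun (congrFun h1 0) 1
  have a02 := congrFun (congrFun h1 0) 2
  have a21 := congrFun (congrFun h1 2) 1
  have b10 := congrFun (congrFun h2 1) 0
  have b11 := congrFun (congrFun h2 1) 1
  have b12 := congrFun (congrFun h2 1) 2
  have b02 := congrFun (congrFun h2 0) 2
  simp [MS, M, Matrix.mul_apply, Fin.sum_univ_three] at a00 a01 a02 a21 b10 b11 b12 b02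
  have hdet := y.2
  rw [Matrix.det_fin_three] at hdet
  -- a00 : y 1 0 = 0, a01 : y 1 1 = y 0 0, a02 : y 1 2 = 0, a21 : y 2 0 = 0
  -- b10 : y 2 0 = 0, b11 : y 2 1 = 0, b12 : y 2 2 = y 1 1, b02 : y 0 1 = 0
  have e10 : y.1 1 0 = 0 := by simpa using a00
  have e11 : y.1 1 1 = y.1 0 0 := by linear_combination a01
  have e12 : y.1 1 2 = 0 := by simpa using a02
  have e20 : y.1 2 0 = 0 := by simpa using a21
  have e21 : y.1 2 1 = 0 := by simpa using b11
  have e22 : y.1 2 2 = y.1 0 0 := by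
    have : y.1 2 2 = y.1 1 1 := by linear_combination b12
    rw [this, e11]
  have e01 : y.1 0 1 = 0 := by simpa using b02
  rw [e10, e11, e12, e20, e21, e22, e01] at hdet
  have e00 : y.1 0 0 = 1 := by
    apply cube_eq_one
    simpa using hdet
  apply Subtype.ext
  ext i j
  fin_cases i <;> fin_cases j <;> simp [MS, M, e00, e01, e10, e11, e12, e20, e21, e22]

theorem factorization_card : (Nat.card S33).factorization 3 = 3 := by
  have hc : Nat.card S33 = 5616 := Cfsg.Agent.Lib.Helper28.card_SL33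
  rw [hc]
  have : (5616 : ℕ) = 3 ^ 3 * 208 := by norm_num
  rw [this, Nat.factorization_mul (by norm_num) (by norm_num),
    Nat.Prime.factorization_pow Nat.prime_three]
  simp [Nat.factorization_eq_zero_of_not_dvd (show ¬ 3 ∣ 208 by norm_num)]

theorem M_eq_tv (b : ZMod 3) : M 0 b 0 = 1 + Matrix.vecMulVec e1 (b • e3) := by
  unfold M e1 e3
  ext i j
  fin_cases i <;> fin_cases j <;> simp

end Syl

open Syl Helper15

open scoped Pointwise

/-- [S6a] (architect's spare) centralizer order divisible by 27 forces a transvection -/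
theorem Syl.isTv_of_mem_TT_spare (x : V S33) (hx : x ∈ TT S33) : IsTv x := by
  have : Fact (Nat.Prime 3) := ⟨Nat.prime_three⟩
  have hx' : 3 ^ 3 ∣ Nat.card (Subgroup.centralizer ({x.1} : Set S33)) := hx
  obtain ⟨K, hK⟩ := Sylow.exists_subgroup_card_pow_prime 3 hx'
  obtain ⟨C, hC⟩ : ∃ C : Subgroup S33, C = Subgroup.centralizer ({x.1} : Set S33) := ⟨_, rfl⟩
  subst hC
  obtain ⟨K', hK'⟩ : ∃ K' : Subgroup S33,
      K' = K.map (Subgroup.centralizer ({x.1} : Set S33)).subtype := ⟨_, rfl⟩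
  have hK'card : Nat.card K' = 3 ^ (Nat.card S33).factorization 3 := by
    rw [factorization_card, hK', Subgroup.card_subtype, hK]
  have hP0card : Nat.card P0 = 3 ^ (Nat.card S33).factorization 3 := by
    rw [factorization_card, card_P0]; norm_num
  obtain ⟨g, hg⟩ := MulAction.exists_smul_eq S33 (Sylow.ofCard P0 hP0card) (Sylow.ofCard K' hK'card)
  have hg' : MulAut.conj g • P0 = K' := by
    have := congrArg (fun P : Sylow 3 S33 => (P : Subgroup S33)) hg
    simpa [Sylow.coe_subgroup_smul, Sylow.coe_ofCard] using this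
  have hK'le : K' ≤ Subgroup.centralizer ({x.1} : Set S33) := by
    rw [hK']
    exact Subgroup.map_subtype_le K
  -- `y = g⁻¹ x g` centralizes `P0`
  have hy : ∀ u ∈ P0, u * (g⁻¹ * x.1 * g) = (g⁻¹ * x.1 * g) * u := by
    intro u hu
    have h1 : g * u * g⁻¹ ∈ K' := by
      rw [← hg']
      exact Subgroup.smul_mem_pointwise_smul u (MulAut.conj g) P0 hu
    have h2 := hK'le h1
    rw [Subgroup.mem_centralizer_singleton_iff] at h2
    -- h2 : g * u * g⁻¹ * x = x * (g * u * g⁻¹)
    calc u * (g⁻¹ * x.1 * g) = g⁻¹ * (g * u * g⁻¹ * x.1) * g := by group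
      _ = g⁻¹ * (x.1 * (g * u * g⁻¹)) * g := by rw [h2]
      _ = (g⁻¹ * x.1 * g) * u := by group
  have hyM := eq_MS_of_centralizes (g⁻¹ * x.1 * g) hy
  set b := (g⁻¹ * x.1 * g).1 0 2 with hb
  have hxg : x.1 = g * MS 0 b 0 * g⁻¹ := by
    rw [← hyM]; group
  have hb0 : b ≠ 0 := by
    intro h0
    apply x.2
    rw [hxg, h0]
    have : MS 0 0 0 = 1 := by
      apply Subtype.ext
      ext i j
      fin_cases i <;> fin_cases j <;> simp [MS, M]
    rw [this]; group
  have hmul : (g⁻¹).1 * g.1 = 1 := by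
    rw [← Matrix.SpecialLinearGroup.coe_mul, inv_mul_cancel]; rfl
  have hmul' : g.1 * (g⁻¹).1 = 1 := by
    rw [← Matrix.SpecialLinearGroup.coe_mul, mul_inv_cancel]; rfl
  refine ⟨g.1 *ᵥ e1, (b • e3) ᵥ* (g⁻¹).1, ⟨?_, ?_, ?_⟩, ?_⟩
  · intro h0
    have : (g⁻¹).1 *ᵥ (g.1 *ᵥ e1) = 0 := by rw [h0, Matrix.mulVec_zero]
    rw [Matrix.mulVec_mulVec, hmul, Matrix.one_mulVec] at this
    have := congrFun this 0
    simp [e1] at this
  · intro h0
    have : ((b • e3) ᵥ* (g⁻¹).1) ᵥ* g.1 = 0 := by rw [h0, Matrix.zero_vecMul]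
    rw [Matrix.vecMul_vecMul, hmul, Matrix.vecMul_one] at this
    have := congrFun this 2
    simp [e3] at this
    exact hb0 this
  · rw [Matrix.dotProduct_mulVec, Matrix.vecMul_vecMul, hmul, Matrix.vecMul_one]
    simp [e1, e3, dotProduct, Fin.sum_univ_three]
  · rw [hxg]
    show g.1 * (MS 0 b 0).1 * (g⁻¹).1 = tv (g.1 *ᵥ e1) ((b • e3) ᵥ* (g⁻¹).1)
    have hM : (MS 0 b 0).1 = 1 + Matrix.vecMulVec e1 (b • e3) := M_eq_tv b
    rw [hM, mul_add, add_mul, mul_one, hmul', Matrix.mul_vecMulVec, Matrix.vecMulVec_mul]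
    rfl

end Cfsg.Agent.Lib.Helper28.CG
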