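import Mathlib
import Cfsg.Agent.Lib.Helper28.CG.Defs
import Cfsg.Agent.Lib.Helper10.CGS5

/-!
# S3412 (helper28): leaf [S7a] (architect's spare): the family `KK` of `SL(3,3)`

Every transvection is `tv (ptVec i) (ε • ptVec j)` for an incident pair `(i, j)` and a sign `ε`;
commutation is read off from the flags; the combinatorics of `PG(2,3)` is checked by `decide` on a
bit table.
-/

set_option autoImplicit false

namespace Cfsg.Agent.Lib.Helper28.CG

open Matrix

namespace Flag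

/-- the lines of `PG(2,3)` as bit masks of the points on them -/
def lineMask : Fin 13 → ℕ :=
  ![7680, 804, 658, 4544, 2132, 1122, 4152, 1164, 2314, 4103, 2209, 1297, 585]

/-- incidence, as a fast Boolean table -/
def incB (i j : Fin 13) : Bool := (lineMask j).testBit i.1

theorem inc_iff_incB : ∀ i j : Fin 13, inc i j ↔ incB i j = true := by decide

theorem incB_unique : ∀ i i' j j' : Fin 13, incB i j = true → incB i' j = true →
    incB i j' = true → incB i' j' = true → i = i' ∨ j = j' := by decide +kernel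

theorem inc_unique {i i' j j' : Fin 13} (h1 : inc i j) (h2 : inc i' j) (h3 : inc i j')
    (h4 : inc i' j') : i = i' ∨ j = j' :=
  incB_unique i i' j j' ((inc_iff_incB _ _).1 h1) ((inc_iff_incB _ _).1 h2)
    ((inc_iff_incB _ _).1 h3) ((inc_iff_incB _ _).1 h4)

theorem incB_two_lines : ∀ i : Fin 13, ∃ j j' : Fin 13, j ≠ j' ∧ incB i j = true ∧
    incB i j' = true := by decide +kernel

theorem incB_two_points : ∀ j : Fin 13, ∃ i i' : Fin 13, i ≠ i' ∧ incB i j = true ∧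
    incB i' j = true := by decide +kernel

theorem incB_other_point : ∀ i j : Fin 13, incB i j = true → ∃ a : Fin 13, a ≠ i ∧
    incB a j = true := by decide +kernel

theorem incB_other_line : ∀ i j : Fin 13, incB i j = true → ∃ b : Fin 13, b ≠ j ∧
    incB i b = true := by decide +kernel

theorem inc_two_lines (i : Fin 13) : ∃ j j' : Fin 13, j ≠ j' ∧ inc i j ∧ inc i j' := by
  obtain ⟨j, j', h, h1, h2⟩ := incB_two_lines i
  exact ⟨j, j', h, (inc_iff_incB _ _).2 h1, (inc_iff_incB _ _).2 h2⟩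

theorem inc_two_points (j : Fin 13) : ∃ i i' : Fin 13, i ≠ i' ∧ inc i j ∧ inc i' j := by
  obtain ⟨i, i', h, h1, h2⟩ := incB_two_points j
  exact ⟨i, i', h, (inc_iff_incB _ _).2 h1, (inc_iff_incB _ _).2 h2⟩

theorem inc_other_point {i j : Fin 13} (h : inc i j) : ∃ a : Fin 13, a ≠ i ∧ inc a j := by
  obtain ⟨a, h1, h2⟩ := incB_other_point i j ((inc_iff_incB _ _).1 h)
  exact ⟨a, h1, (inc_iff_incB _ _).2 h2⟩

theorem inc_other_line {i j : Fin 13} (h : inc i j) : ∃ b : Fin 13, b ≠ j ∧ inc i b := by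
  obtain ⟨b, h1, h2⟩ := incB_other_line i j ((inc_iff_incB _ _).1 h)
  exact ⟨b, h1, (inc_iff_incB _ _).2 h2⟩

theorem ptVec_ne_zero : ∀ i : Fin 13, ptVec i ≠ 0 := by decide

theorem exists_ptVec : ∀ v : Vec, v ≠ 0 → ∃ i : Fin 13, ∃ ε : ZMod 3, ε ≠ 0 ∧ v = ε • ptVec i := by
  decide

theorem smul_dot (ε : ZMod 3) (v w : Vec) : (ε • v) ⬝ᵥ w = ε * (v ⬝ᵥ w) := by
  rw [smul_dotProduct, smul_eq_mul]

theorem dot_smul (ε : ZMod 3) (v w : Vec) : v ⬝ᵥ (ε • w) = ε * (v ⬝ᵥ w) := by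
  rw [dotProduct_smul, smul_eq_mul]

theorem inc_comm (i j : Fin 13) : inc i j ↔ inc j i := by
  unfold inc
  rw [dotProduct_comm]

theorem tv_smul (ε δ : ZMod 3) (v φ : Vec) : tv (ε • v) (δ • φ) = tv v ((ε * δ) • φ) := by
  unfold tv
  congr 1
  ext a b
  simp only [Matrix.vecMulVec_apply, Pi.smul_apply, smul_eq_mul]
  ring

/-- the vertex `x` is the transvection with centre `ptVec i` and axis `ptVec j` (up to sign) -/
def HasFlag (x : V S33) (i j : Fin 13) : Prop :=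
  inc i j ∧ ∃ ε : ZMod 3, ε ≠ 0 ∧
    ((x.1 : S33) : Matrix (Fin 3) (Fin 3) (ZMod 3)) = tv (ptVec i) (ε • ptVec j)

theorem flagPair_of {i j : Fin 13} (h : inc i j) {ε : ZMod 3} (hε : ε ≠ 0) :
    IsFlagPair (ptVec i) (ε • ptVec j) := by
  refine ⟨ptVec_ne_zero i, smul_ne_zero hε (ptVec_ne_zero j), ?_⟩
  rw [smul_dot]
  have : ptVec j ⬝ᵥ ptVec i = 0 := (inc_comm i j).1 h
  rw [this, mul_zero]

theorem isTv_of_hasFlag {x : V S33} {i j : Fin 13} (h : HasFlag x i j) : IsTv x := by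
  obtain ⟨hinc, ε, hε, hx⟩ := h
  exact ⟨ptVec i, ε • ptVec j, flagPair_of hinc hε, hx⟩

theorem hasFlag_of_eq {x : V S33} {v φ : Vec} (h : IsFlagPair v φ)
    (hx : ((x.1 : S33) : Matrix (Fin 3) (Fin 3) (ZMod 3)) = tv v φ) :
    ∃ i j, HasFlag x i j ∧ (∃ ε : ZMod 3, ε ≠ 0 ∧ v = ε • ptVec i) ∧
      (∃ δ : ZMod 3, δ ≠ 0 ∧ φ = δ • ptVec j) := by
  obtain ⟨i, ε, hε, hv⟩ := exists_ptVec v h.1
  obtain ⟨j, δ, hδ, hφ⟩ := exists_ptVec φ h.2.1
  refine ⟨i, j, ⟨?_, ε * δ, mul_ne_zero hε hδ, ?_⟩, ⟨ε, hε, hv⟩, ⟨δ, hδ, hφ⟩⟩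
  · have h0 := h.2.2
    rw [hv, hφ, smul_dot, dot_smul] at h0
    have h1 : ptVec j ⬝ᵥ ptVec i = 0 := by
      rcases mul_eq_zero.1 h0 with h' | h'
      · exact absurd h' hδ
      · rcases mul_eq_zero.1 h' with h'' | h''
        · exact absurd h'' hε
        · exact h''
    exact (inc_comm i j).2 h1
  · rw [hx, hv, hφ, tv_smul]

theorem isTv_iff (x : V S33) : IsTv x ↔ ∃ i j, HasFlag x i j := by
  constructor
  · rintro ⟨v, φ, h, hx⟩
    obtain ⟨i, j, hf, _⟩ := hasFlag_of_eq h hx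
    exact ⟨i, j, hf⟩
  · rintro ⟨i, j, h⟩
    exact isTv_of_hasFlag h

theorem comm_iff {x y : V S33} {i j a b : Fin 13} (hx : HasFlag x i j) (hy : HasFlag y a b) :
    comm x y ↔ inc a j ∧ inc i b := by
  obtain ⟨hij, ε, hε, ex⟩ := hx
  obtain ⟨hab, δ, hδ, ey⟩ := hy
  unfold comm
  have e1 : x.1 * y.1 = y.1 * x.1 ↔
      ((x.1 : S33) : Matrix (Fin 3) (Fin 3) (ZMod 3)) * ((y.1 : S33) : Matrix _ _ _) =
        ((y.1 : S33) : Matrix _ _ _) * ((x.1 : S33) : Matrix _ _ _) := by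
    rw [← Matrix.SpecialLinearGroup.coe_mul, ← Matrix.SpecialLinearGroup.coe_mul]
    exact Subtype.ext_iff
  rw [e1, ex, ey, tv_mul_comm_iff _ _ _ _ (flagPair_of hij hε) (flagPair_of hab hδ), smul_dot,
    smul_dot]
  constructor
  · rintro ⟨h1, h2⟩
    refine ⟨?_, ?_⟩
    · rcases mul_eq_zero.1 h1 with h | h
      · exact absurd h hε
      · exact (inc_comm a j).2 h
    · rcases mul_eq_zero.1 h2 with h | h
      · exact absurd h hδ
      · exact (inc_comm i b).2 h
  · rintro ⟨h1, h2⟩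
    have h1' : ptVec j ⬝ᵥ ptVec a = 0 := (inc_comm a j).1 h1
    have h2' : ptVec b ⬝ᵥ ptVec i = 0 := (inc_comm i b).1 h2
    rw [h1', h2', mul_zero, mul_zero]
    exact ⟨rfl, rfl⟩

theorem mem_kap_inl (x : V S33) (i : Fin 13) : x ∈ kap (Sum.inl i) ↔ ∃ j, HasFlag x i j := by
  constructor
  · rintro ⟨φ, h, hx⟩
    obtain ⟨j, δ, hδ, hφ⟩ := exists_ptVec φ h.2.1
    refine ⟨j, ?_, δ, hδ, by rw [hx, hφ]⟩
    have h0 := h.2.2
    rw [hφ, smul_dot] at h0
    rcases mul_eq_zero.1 h0 with h' | h'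
    · exact absurd h' hδ
    · exact (inc_comm i j).2 h'
  · rintro ⟨j, hinc, ε, hε, hx⟩
    exact ⟨ε • ptVec j, flagPair_of hinc hε, hx⟩

theorem mem_kap_inr (x : V S33) (j : Fin 13) : x ∈ kap (Sum.inr j) ↔ ∃ i, HasFlag x i j := by
  constructor
  · rintro ⟨v, h, hx⟩
    obtain ⟨i, ε, hε, hv⟩ := exists_ptVec v h.1
    refine ⟨i, ?_, ε, hε, ?_⟩
    · have h0 := h.2.2
      rw [hv, dot_smul] at h0
      rcases mul_eq_zero.1 h0 with h' | h'
      · exact absurd h' hε
      · exact (inc_comm i j).2 h'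
    · rw [hx, hv]
      have := tv_smul ε 1 (ptVec i) (ptVec j)
      rw [one_smul, mul_one] at this
      exact this
  · rintro ⟨i, hinc, ε, hε, hx⟩
    refine ⟨ε • ptVec i, ?_, ?_⟩
    · refine ⟨smul_ne_zero hε (ptVec_ne_zero i), ptVec_ne_zero j, ?_⟩
      rw [dot_smul]
      have : ptVec j ⬝ᵥ ptVec i = 0 := (inc_comm i j).1 hinc
      rw [this, mul_zero]
    · rw [hx]
      have := tv_smul ε 1 (ptVec i) (ptVec j)
      rw [one_smul, mul_one] at this
      exact this.symm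

/-- the standard transvection vertex with a given flag -/
def mkV (i j : Fin 13) (h : inc i j) : V S33 :=
  ⟨⟨tv (ptVec i) ((1 : ZMod 3) • ptVec j), det_tv _ _ (flagPair_of h one_ne_zero).2.2⟩,
    fun e => tv_ne_one _ _ (flagPair_of h one_ne_zero) (congrArg Subtype.val e)⟩

theorem hasFlag_mkV (i j : Fin 13) (h : inc i j) : HasFlag (mkV i j h) i j :=
  ⟨h, 1, one_ne_zero, rfl⟩

end Flag

open Flag

/-- [S7a] (architect's spare) the family `KK` of `SL(3,3)` consists of the 26 sets `kap a` -/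
theorem Flag.KK_S33_eq_spare (hT : ∀ x : V S33, x ∈ TT S33 ↔ IsTv x) :
    KK S33 = Set.range kap := by
  have hT' : ∀ x : V S33, x ∈ TT S33 ↔ ∃ i j, HasFlag x i j := fun x =>
    (hT x).trans (isTv_iff x)
  ext K
  constructor
  · rintro ⟨t, ht, u, hu, htu, hntw, rfl⟩
    obtain ⟨i, j, hft⟩ := (hT' t).1 ht
    obtain ⟨i', j', hfu⟩ := (hT' u).1 hu
    have hc := (comm_iff hft hfu).1 htu
    -- hc : inc i' j ∧ inc i j'
    rcases inc_unique hft.1 hc.1 hc.2 hfu.1 with hi | hj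
    · subst hi
      by_cases hj : j = j'
      · subst hj
        exfalso
        apply hntw
        intro w hw
        obtain ⟨a, b, hfw⟩ := (hT' w).1 hw
        rw [comm_iff hfw hft, comm_iff hfw hfu]
      · refine ⟨Sum.inl i, ?_⟩
        ext w
        rw [mem_kap_inl]
        constructor
        · rintro ⟨b, hfw⟩
          refine ⟨(hT' w).2 ⟨i, b, hfw⟩, ?_, ?_⟩
          · rw [comm_iff hfw hft]; exact ⟨hfw.1, hft.1⟩
          · rw [comm_iff hfw hfu]; exact ⟨hfw.1, hfu.1⟩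
        · rintro ⟨hw, hwt, hwu⟩
          obtain ⟨a, b, hfw⟩ := (hT' w).1 hw
          have h1 := (comm_iff hfw hft).1 hwt
          have h2 := (comm_iff hfw hfu).1 hwu
          -- h1 : inc i b ∧ inc a j ; h2 : inc i b ∧ inc a j'
          rcases inc_unique h1.2 hft.1 h2.2 hfu.1 with ha | hjj
          · subst ha
            exact ⟨b, hfw⟩
          · exact absurd hjj hj
    · subst hj
      by_cases hi : i = i'
      · subst hi
        exfalso
        apply hntw
        intro w hw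
        obtain ⟨a, b, hfw⟩ := (hT' w).1 hw
        rw [comm_iff hfw hft, comm_iff hfw hfu]
      · refine ⟨Sum.inr j, ?_⟩
        ext w
        rw [mem_kap_inr]
        constructor
        · rintro ⟨a, hfw⟩
          refine ⟨(hT' w).2 ⟨a, j, hfw⟩, ?_, ?_⟩
          · rw [comm_iff hfw hft]; exact ⟨hft.1, hfw.1⟩
          · rw [comm_iff hfw hfu]; exact ⟨hfu.1, hfw.1⟩
        · rintro ⟨hw, hwt, hwu⟩
          obtain ⟨a, b, hfw⟩ := (hT' w).1 hw
          have h1 := (comm_iff hfw hft).1 hwt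
          have h2 := (comm_iff hfw hfu).1 hwu
          -- h1 : inc i b ∧ inc a j ; h2 : inc i' b ∧ inc a j
          rcases inc_unique h1.1 h2.1 hft.1 hfu.1 with hii | hb
          · exact absurd hii hi
          · subst hb
            exact ⟨a, hfw⟩
  · rintro ⟨a, rfl⟩
    rcases a with i | j
    · obtain ⟨j, j', hjj, h1, h2⟩ := inc_two_lines i
      refine ⟨mkV i j h1, (hT' _).2 ⟨i, j, hasFlag_mkV i j h1⟩, mkV i j' h2,
        (hT' _).2 ⟨i, j', hasFlag_mkV i j' h2⟩, ?_, ?_, ?_⟩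
      · rw [comm_iff (hasFlag_mkV i j h1) (hasFlag_mkV i j' h2)]
        exact ⟨h1, h2⟩
      · intro htw
        obtain ⟨a, ha, haj⟩ := inc_other_point h1
        have hw := htw (mkV a j haj) ((hT' _).2 ⟨a, j, hasFlag_mkV a j haj⟩)
        rw [comm_iff (hasFlag_mkV a j haj) (hasFlag_mkV i j h1),
          comm_iff (hasFlag_mkV a j haj) (hasFlag_mkV i j' h2)] at hw
        have h3 := hw.1 ⟨h1, haj⟩
        -- h3 : inc i j ∧ inc a j'
        rcases inc_unique haj h1 h3.2 h2 with e | e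
        · exact ha e
        · exact hjj e
      · ext w
        rw [mem_kap_inl]
        constructor
        · rintro ⟨b, hfw⟩
          refine ⟨(hT' w).2 ⟨i, b, hfw⟩, ?_, ?_⟩
          · rw [comm_iff hfw (hasFlag_mkV i j h1)]; exact ⟨hfw.1, h1⟩
          · rw [comm_iff hfw (hasFlag_mkV i j' h2)]; exact ⟨hfw.1, h2⟩
        · rintro ⟨hw, hwt, hwu⟩
          obtain ⟨a, b, hfw⟩ := (hT' w).1 hw
          have h3 := (comm_iff hfw (hasFlag_mkV i j h1)).1 hwt
          have h4 := (comm_iff hfw (hasFlag_mkV i j' h2)).1 hwu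
          rcases inc_unique h3.2 h1 h4.2 h2 with ha | e
          · subst ha
            exact ⟨b, hfw⟩
          · exact absurd e hjj
    · obtain ⟨i, i', hii, h1, h2⟩ := inc_two_points j
      refine ⟨mkV i j h1, (hT' _).2 ⟨i, j, hasFlag_mkV i j h1⟩, mkV i' j h2,
        (hT' _).2 ⟨i', j, hasFlag_mkV i' j h2⟩, ?_, ?_, ?_⟩
      · rw [comm_iff (hasFlag_mkV i j h1) (hasFlag_mkV i' j h2)]
        exact ⟨h2, h1⟩
      · intro htw
        obtain ⟨b, hb, hib⟩ := inc_other_line h1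
        have hw := htw (mkV i b hib) ((hT' _).2 ⟨i, b, hasFlag_mkV i b hib⟩)
        rw [comm_iff (hasFlag_mkV i b hib) (hasFlag_mkV i j h1),
          comm_iff (hasFlag_mkV i b hib) (hasFlag_mkV i' j h2)] at hw
        have h3 := hw.1 ⟨hib, h1⟩
        -- h3 : inc i' b ∧ inc i j
        rcases inc_unique hib h3.1 h1 h2 with e | e
        · exact hii e
        · exact hb e
      · ext w
        rw [mem_kap_inr]
        constructor
        · rintro ⟨a, hfw⟩
          refine ⟨(hT' w).2 ⟨a, j, hfw⟩, ?_, ?_⟩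
          · rw [comm_iff hfw (hasFlag_mkV i j h1)]; exact ⟨h1, hfw.1⟩
          · rw [comm_iff hfw (hasFlag_mkV i' j h2)]; exact ⟨h2, hfw.1⟩
        · rintro ⟨hw, hwt, hwu⟩
          obtain ⟨a, b, hfw⟩ := (hT' w).1 hw
          have h3 := (comm_iff hfw (hasFlag_mkV i j h1)).1 hwt
          have h4 := (comm_iff hfw (hasFlag_mkV i' j h2)).1 hwu
          rcases inc_unique h3.1 h4.1 h1 h2 with e | hb
          · exact absurd e hii
          · subst hb
            exact ⟨a, hfw⟩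

end Cfsg.Agent.Lib.Helper28.CG
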