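import Mathlib
import Cfsg.Agent.Lib.Helper28.CG.Defs
import Cfsg.Agent.Lib.Helper28.CG.Generic
import Cfsg.Agent.Lib.Helper10.CGS2
import Cfsg.Agent.Lib.Helper10.CGS5
import Cfsg.Agent.Lib.Helper13.CGS3
import Cfsg.Agent.Lib.Helper13.CGS4
import Cfsg.Agent.Lib.Helper4.CGC1
import Cfsg.Agent.Lib.Helper10.CGS7b
import Cfsg.Agent.Lib.Helper15.CGS6b
import Cfsg.Agent.Lib.Helper28.CG.S7a
import Cfsg.Agent.Lib.Helper28.CG.S6a
import Cfsg.Agent.Lib.Helper28.L33

/-!
# S3412 (helper28): assembly

A finite group whose commuting graph is that of `SL(3,3)` is isomorphic to `SL(3,3)`.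
-/

set_option autoImplicit false

namespace Cfsg.Agent.Lib.Helper28.CG

open Matrix

/-! ### conjugation on the commuting graph -/

section Conj

variable {X : Type*} [Group X]

/-- conjugation on the vertices -/
def conjV (g : X) : Equiv.Perm (V X) where
  toFun x := ⟨g * x.1 * g⁻¹, fun h => x.2 (by
    have e : x.1 = g⁻¹ * (g * x.1 * g⁻¹) * g := by group
    rw [e, h]; group)⟩
  invFun x := ⟨g⁻¹ * x.1 * g, fun h => x.2 (by
    have e : x.1 = g * (g⁻¹ * x.1 * g) * g⁻¹ := by group
    rw [e, h]; group)⟩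
  left_inv x := by apply Subtype.ext; simp [mul_assoc]
  right_inv x := by apply Subtype.ext; simp [mul_assoc]

theorem conjV_apply (g : X) (x : V X) : ((conjV g x : V X) : X) = g * x.1 * g⁻¹ := rfl

theorem conjV_mem (g : X) : conjV g ∈ GAut X := by
  intro x y
  unfold comm
  simp only [conjV_apply]
  constructor
  · intro h
    have e : g * (x.1 * y.1) * g⁻¹ = g * (y.1 * x.1) * g⁻¹ := by
      calc g * (x.1 * y.1) * g⁻¹ = (g * x.1 * g⁻¹) * (g * y.1 * g⁻¹) := by group
        _ = (g * y.1 * g⁻¹) * (g * x.1 * g⁻¹) := h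
        _ = _ := by group
    exact mul_left_cancel (mul_right_cancel e)
  · intro h
    calc (g * x.1 * g⁻¹) * (g * y.1 * g⁻¹) = g * (x.1 * y.1) * g⁻¹ := by group
      _ = g * (y.1 * x.1) * g⁻¹ := by rw [h]
      _ = _ := by group

/-- the conjugation action as a homomorphism into the automorphism group of the graph -/
def conjHom (X : Type*) [Group X] : X →* GAut X where
  toFun g := ⟨conjV g, conjV_mem g⟩
  map_one' := by
    apply Subtype.ext; ext x
    simp [conjV_apply]
  map_mul' a b := by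
    apply Subtype.ext; ext x
    simp [conjV_apply, mul_assoc]

theorem conjHom_apply (g : X) (x : V X) :
    ((((conjHom X g : GAut X) : Equiv.Perm (V X)) x : V X) : X) = g * x.1 * g⁻¹ := rfl

end Conj

/-! ### transport along a graph isomorphism -/

section Transp

variable {H S : Type*} [Group H] [Group S]

/-- transport of graph automorphisms along a graph isomorphism -/
def transp (f : V H ≃ V S) (hf : ∀ x y, comm (f x) (f y) ↔ comm x y) : GAut H →* GAut S where
  toFun σ := ⟨f.permCongr σ.1, by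
    intro x y
    simp only [Equiv.permCongr_apply]
    rw [hf, σ.2, ← hf]
    simp⟩
  map_one' := by
    apply Subtype.ext; ext x
    simp
  map_mul' a b := by
    apply Subtype.ext; ext x
    simp

theorem transp_apply (f : V H ≃ V S) (hf : ∀ x y, comm (f x) (f y) ↔ comm x y) (σ : GAut H)
    (x : V S) : ((transp f hf σ : GAut S) : Equiv.Perm (V S)) x = f (σ.1 (f.symm x)) := rfl

end Transp

/-! ### the action on the Levi graph -/

theorem isTv_of_mem_TT (x : V S33) (hx : x ∈ TT S33) : IsTv x :=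
  Syl.isTv_of_mem_TT_spare x hx

theorem mem_TT_of_isTv (x : V S33) (hx : IsTv x) : x ∈ TT S33 :=
  Helper15.mem_TT_of_isTv_spare x hx

theorem KK_S33_eq (hT : ∀ x : V S33, x ∈ TT S33 ↔ IsTv x) : KK S33 = Set.range kap :=
  Flag.KK_S33_eq_spare hT

theorem kap_facts :
    Function.Injective kap ∧
    (∀ a b : Om, a ≠ b → ((kap a ∩ kap b).Nonempty ↔ LeviAdj a b)) ∧
    (∀ a b : Om, a ≠ b → (kap a ∩ kap b).ncard ≤ 2) ∧
    (∀ x : V S33, IsTv x → ∃ a b : Om, a ≠ b ∧ x ∈ kap a ∧ x ∈ kap b) :=
  Helper10.kap_facts_spare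

theorem TT_iff_isTv (x : V S33) : x ∈ TT S33 ↔ IsTv x :=
  ⟨isTv_of_mem_TT x, mem_TT_of_isTv x⟩

theorem exists_kap_eq_image (σ : Equiv.Perm (V S33)) (hσ : σ ∈ GAut S33) (a : Om) :
    ∃ b, kap b = σ '' kap a := by
  have hK : kap a ∈ KK S33 := by
    rw [KK_S33_eq TT_iff_isTv]
    exact ⟨a, rfl⟩
  have h := image_mem_KK σ hσ (fun x => cdeg_eq_of_iso σ ((mem_GAut σ).1 hσ) x) (kap a) hK
  rw [KK_S33_eq TT_iff_isTv] at h
  obtain ⟨b, hb⟩ := h
  exact ⟨b, hb⟩

theorem exists_Phi : ∃ Φ : GAut S33 →* Equiv.Perm Om,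
    ∀ (σ : GAut S33) (a : Om), kap (Φ σ a) = ((σ : Equiv.Perm (V S33)) : V S33 → V S33) '' kap a :=
  exists_hom_of_image_mem (GAut S33) kap kap_facts.1 (fun σ hσ a => exists_kap_eq_image σ hσ a)

/-- the action of the automorphism group of the commuting graph on points and lines -/
noncomputable def Phi : GAut S33 →* Equiv.Perm Om := Classical.choose exists_Phi

theorem kap_Phi (σ : GAut S33) (a : Om) :
    kap (Phi σ a) = ((σ : Equiv.Perm (V S33)) : V S33 → V S33) '' kap a :=
  Classical.choose_spec exists_Phi σ a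

theorem LeviAdj_irrefl (a : Om) : ¬ LeviAdj a a := by
  cases a <;> simp [LeviAdj]

theorem Phi_mem (σ : GAut S33) : Phi σ ∈ LeviAut := by
  intro a b
  by_cases hab : a = b
  · subst hab
    exact iff_of_false (LeviAdj_irrefl _) (LeviAdj_irrefl _)
  · have hab' : Phi σ a ≠ Phi σ b := fun h => hab ((Phi σ).injective h)
    rw [← kap_facts.2.1 _ _ hab', ← kap_facts.2.1 _ _ hab, kap_Phi, kap_Phi,
      ← Set.image_inter (σ : Equiv.Perm (V S33)).injective, Set.image_nonempty]

/-- the action on the Levi graph -/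
noncomputable def Psi : GAut S33 →* LeviAut := Phi.codRestrict LeviAut Phi_mem

theorem Psi_apply (σ : GAut S33) : ((Psi σ : LeviAut) : Equiv.Perm Om) = Phi σ := rfl

/-- an automorphism in the kernel of the action on the Levi graph squares to the identity on
transvections -/
theorem sq_apply_of_Psi_eq_one (σ : GAut S33) (h : Psi σ = 1) (x : V S33) (hx : IsTv x) :
    σ.1 (σ.1 x) = x := by
  have hΦ : Phi σ = 1 := by
    have := congrArg (fun t : LeviAut => (t : Equiv.Perm Om)) h
    simpa [Psi_apply] using this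
  have hk : ∀ a, σ.1 '' kap a = kap a := by
    intro a
    rw [← kap_Phi, hΦ]
    rfl
  obtain ⟨a, b, hab, hxa, hxb⟩ := kap_facts.2.2.2 x hx
  have hmem : ∀ y, y ∈ kap a ∩ kap b → σ.1 y ∈ kap a ∩ kap b := by
    intro y hy
    refine ⟨?_, ?_⟩
    · rw [← hk a]; exact ⟨y, hy.1, rfl⟩
    · rw [← hk b]; exact ⟨y, hy.2, rfl⟩
  have h0 : x ∈ kap a ∩ kap b := ⟨hxa, hxb⟩
  have h1 := hmem x h0
  have h2 := hmem _ h1
  have hcard := kap_facts.2.2.1 a b hab
  by_contra hne
  have hne1 : σ.1 x ≠ x := by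
    intro e
    apply hne
    rw [e, e]
  have hne2 : σ.1 (σ.1 x) ≠ σ.1 x := by
    intro e
    exact hne1 (σ.1.injective e)
  have hsub : ({x, σ.1 x, σ.1 (σ.1 x)} : Set (V S33)) ⊆ kap a ∩ kap b := by
    intro y hy
    rcases hy with rfl | rfl | rfl
    · exact h0
    · exact h1
    · exact h2
  have h3 : ({x, σ.1 x, σ.1 (σ.1 x)} : Set (V S33)).ncard = 3 := by
    rw [Set.ncard_eq_three]
    exact ⟨x, σ.1 x, σ.1 (σ.1 x), fun e => hne1 e.symm, fun e => hne e.symm,
      fun e => hne2 e.symm, rfl⟩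
  have := Set.ncard_le_ncard hsub (Set.toFinite _)
  omega

/-! ### the embedding into the automorphism group of the Levi graph -/

theorem card_V (X : Type*) [Group X] [Finite X] : Nat.card (V X) + 1 = Nat.card X := by
  classical
  have h : Nat.card (V X) = Nat.card X - 1 := by
    have e : V X = ↥(({1} : Set X)ᶜ) := rfl
    rw [e, Nat.card_coe_set_eq, Set.ncard_compl, Set.ncard_singleton]
  have hpos : 0 < Nat.card X := Nat.card_pos
  omega

/-- the transvection vertex attached to a flag pair -/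
def tvV (v φ : Vec) (h : IsFlagPair v φ) : V S33 :=
  ⟨⟨tv v φ, det_tv v φ h.2.2⟩, fun e => tv_ne_one v φ h (congrArg Subtype.val e)⟩

theorem isTv_tvV (v φ : Vec) (h : IsFlagPair v φ) : IsTv (tvV v φ h) := ⟨v, φ, h, rfl⟩

section Embed

variable {H : Type*} [Group H] [Finite H] (f : V H ≃ V S33)
  (hf : ∀ x y, comm (f x) (f y) ↔ comm x y)

/-- the action of `H` on the Levi graph -/
noncomputable def rho : H →* LeviAut := (Psi.comp (transp f hf)).comp (conjHom H)

include hf in
theorem card_eq : Nat.card H = 5616 := by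
  have h1 := card_V H
  have h2 := card_V S33
  rw [Nat.card_congr f] at h1
  have h3 : Nat.card S33 = 5616 := Cfsg.Agent.Lib.Helper28.card_SL33
  omega

omit [Finite H] in
theorem sq_eq_one_of_mem_ker (h : H) (hh : rho f hf h = 1) : h * h = 1 := by
  by_contra hne
  set k : V H := ⟨h * h, hne⟩ with hk
  have key : ∀ x : V S33, IsTv x → comm (f k) x := by
    intro x hx
    have h1 := sq_apply_of_Psi_eq_one (transp f hf (conjHom H h)) hh x hx
    rw [transp_apply, transp_apply, Equiv.symm_apply_apply] at h1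
    have h2 := f.injective (h1.trans (f.apply_symm_apply x).symm)
    have h3 := congrArg Subtype.val h2
    rw [conjHom_apply, conjHom_apply] at h3
    have h4 : comm k (f.symm x) := by
      unfold comm
      rw [hk]
      simp only
      calc h * h * (f.symm x).1 = (h * (h * (f.symm x).1 * h⁻¹) * h⁻¹) * (h * h) := by group
        _ = (f.symm x).1 * (h * h) := by rw [h3]
    rw [← hf] at h4
    rwa [Equiv.apply_symm_apply] at h4
  have hone : (f k).1 = 1 := by
    apply S33_eq_one_of_commute_tv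
    intro v φ hvφ
    have := key (tvV v φ hvφ) (isTv_tvV v φ hvφ)
    unfold comm at this
    have e := congrArg (fun t : S33 => (t : Matrix (Fin 3) (Fin 3) (ZMod 3))) this
    simp only [Matrix.SpecialLinearGroup.coe_mul] at e
    exact e
  exact (f k).2 hone

theorem rho_injective : Function.Injective (rho f hf) := by
  rw [← MonoidHom.ker_eq_bot_iff]
  apply eq_bot_of_exponent_two (card_eq f hf) (rho f hf).ker
  · intro k hk
    exact sq_eq_one_of_mem_ker f hf k ((MonoidHom.mem_ker).1 hk)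
  · intro k _ hk1
    have h1 := cdeg_eq_of_iso f hf ⟨k, hk1⟩
    have h2 := S33_card_centralizer_le (f ⟨k, hk1⟩).1 (f ⟨k, hk1⟩).2
    unfold cdeg at h1
    rw [h1] at h2
    exact h2

end Embed

/-- **The commuting graph determines `SL(3,3)`.** -/
theorem nonempty_mulEquiv_S33 {H : Type*} [Group H] [Finite H] (f : V H ≃ V S33)
    (hf : ∀ x y, comm (f x) (f y) ↔ comm x y) : Nonempty (H ≃* S33) := by
  have hS : ∀ x y : V S33, comm ((Equiv.refl (V S33)) x) ((Equiv.refl (V S33)) y) ↔ comm x y :=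
    fun x y => Iff.rfl
  set ρ₁ := rho (Equiv.refl (V S33)) hS with hρ₁
  set ρ₂ := rho f hf with hρ₂
  have hi₁ : Function.Injective ρ₁ := rho_injective _ hS
  have hi₂ : Function.Injective ρ₂ := rho_injective f hf
  have e₁ : S33 ≃* ρ₁.range := MonoidHom.ofInjective hi₁
  have e₂ : H ≃* ρ₂.range := MonoidHom.ofInjective hi₂
  have c₁ : Nat.card ρ₁.range = 5616 := by
    rw [← Nat.card_congr e₁.toEquiv]; exact Cfsg.Agent.Lib.Helper28.card_SL33
  have c₂ : Nat.card ρ₂.range = 5616 := by
    rw [← Nat.card_congr e₂.toEquiv]; exact card_eq f hf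
  have hno : ∀ N : Subgroup ρ₁.range, N.index ≠ 2 := by
    intro N
    rw [← Subgroup.index_map_equiv N e₁.symm]
    exact S33_no_index_two _
  have heq : ρ₁.range = ρ₂.range :=
    eq_of_card_eq_of_no_index_two ρ₁.range ρ₂.range 5616 c₁ c₂
      (by have := card_LeviAut_le; omega) hno
  exact ⟨(e₂.trans (MulEquiv.subgroupCongr heq.symm)).trans e₁.symm⟩

end Cfsg.Agent.Lib.Helper28.CG
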